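import Cfsg.Agent.H823.O8R.Over
import Cfsg.Agent.H886.O8R.OrdV
import Cfsg.Agent.H679.O8R.Three
import Cfsg.Agent.H372.O8R.Cross
import Cfsg.Agent.H372.O8R.Ord
import Cfsg.Agent.H953.O8R.SpinBox
import Cfsg.Agent.H832.O8R.Num
import Cfsg.Agent.H659.Rs.Box
import Cfsg.Agent.H883.Bridge
import Cfsg.Agent.S0789

/-!
# S3691, `PSp_8(2^f)`: the box `BoxO8p` (subgroups of `O_8^+(2^f)` of order divisible by `r_6` and `r_3`) (helper299)
-/

set_option autoImplicit false
set_option linter.unusedSectionVars false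

namespace Cfsg.Agent.H299.Rs

open Module QuadraticMap Cfsg Cfsg.Geo Cfsg.Agent.LieClassical.OrthCore Cfsg.Agent.H955 Cfsg.Agent.H954.TSing
open Cfsg.Agent.LieClassical.OmegaReindex Cfsg.Agent.OrdDiv
open Cfsg.Agent.H436
open Cfsg.Agent.H884.El
open Cfsg.Agent.H264.FKS Cfsg.Agent.H264.GN Cfsg.Agent.H915.GN Cfsg.Agent.H915.LD Cfsg.Agent.H902 Cfsg.Agent.H902.Names
open Cfsg.Agent.H708.O8 (I8 T8 RB)
open Cfsg.Agent.H823.O8S Cfsg.Agent.H823.O8R
open Cfsg.Agent.H659.Rs (Pm BoxO8p)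
open scoped MatrixGroups Matrix

/-! ### the numbers -/

theorem prim_of_pm {n l : ℕ} (hn : 1 ≤ n) (h : Pm n l) : Prim 2 n l where
  prime := h.prime
  dvd_iff m := by
    have h1 : ((2 ^ m - 1 : ℕ) : ZMod l) = ((2 : ℕ) : ZMod l) ^ m - 1 := by
      rw [Nat.cast_sub (Nat.one_le_two_pow), Nat.cast_pow, Nat.cast_one]
    rw [← h.ord, orderOf_dvd_iff_pow_eq_one, ← ZMod.natCast_eq_zero_iff, h1, sub_eq_zero]
  not_dvd := by
    intro h1
    have h2 : ((2 : ℕ) : ZMod l) = 0 := (ZMod.natCast_eq_zero_iff 2 l).2 h1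
    have h3 := h.ord
    have : Fact l.Prime := ⟨h.prime⟩
    rw [h2, orderOf_eq_zero_iff'.2 (fun k hk => by rw [zero_pow (by omega)]; exact zero_ne_one)] at h3
    omega

theorem exists_nm {f s t : ℕ} (hf : 4 ≤ f) (hs : Pm (6 * f) s) (ht : Pm (3 * f) t) : ∃ r b, Nm 2 f r b s 1 t := by
  have hs' := prim_of_pm (by omega) hs
  have ht' := prim_of_pm (by omega) ht
  obtain ⟨r, hr⟩ := exists_prim (q := 2) (e := 4 * f) le_rfl (by omega) (by omega)
  have hr4 := H832.O8R.lt_of_prim hr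
  have hs4 := H832.O8R.lt_of_prim hs'
  have h1 : r ∣ 2 ^ (2 * f) + 1 := hr.dvd_add ⟨1, by ring⟩ (fun h => by have := Nat.le_of_dvd (by omega) h; omega)
  have h16 : 16 ≤ 2 ^ f := by
    calc 16 = 2 ^ 4 := by norm_num
      _ ≤ 2 ^ f := Nat.pow_le_pow_right (by norm_num) hf
  refine ⟨r, (2 ^ (2 * f) + 1).factorization r, ⟨⟨Nat.prime_two, by omega, hr, Nat.ordProj_dvd _ _,
    Nat.pow_succ_factorization_not_dvd (by positivity) hr.prime, Or.inl ⟨by omega, ?_⟩⟩, ⟨Nat.prime_two, by omega, by omega,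
    by omega, hs', ?_, Or.inl ⟨by omega, rfl⟩⟩, ht', h16⟩⟩
  · exact (hr.prime.dvd_iff_one_le_factorization (by positivity)).1 h1
  · rw [pow_one]
    exact hs'.dvd_add ⟨1, by ring⟩ (fun h => by have := Nat.le_of_dvd (by omega) h; omega)

/-- the 2-part of `|PSp_6(q)|` -/
theorem fac_psp {K : Type} [Field K] [Fintype K] {f : ℕ} (hf : 1 ≤ f) (hK : Fintype.card K = 2 ^ f) :
    (Nat.card (PSp 3 K)).factorization 2 = 9 * f := by
  have h1 := psp_eq (F := K) (m := 3) (by norm_num)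
  change Nat.gcd 2 (Fintype.card K - 1) * Nat.card (PSp 3 K) = Fintype.card K ^ (3 ^ 2) * prB (Fintype.card K) 3 at h1
  have hpow : ∀ n, 1 ≤ n → (2 ^ f) ^ n % 2 = 0 := by
    intro n hn
    rw [← pow_mul]
    exact Nat.mod_eq_zero_of_dvd (dvd_pow_self 2 (Nat.mul_ne_zero (by omega) (by omega)))
  have hpos : ∀ n, 0 < (2 ^ f) ^ n := fun n => by positivity
  have h2 : Nat.gcd 2 (2 ^ f - 1) = 1 := by
    apply Nat.coprime_two_left.2
    have h3 := hpow 1 le_rfl
    have h4 := hpos 1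
    rw [pow_one] at h3 h4
    rw [Nat.odd_iff]
    omega
  rw [hK, h2, one_mul] at h1
  have h5 : ¬ 2 ∣ prB (2 ^ f) 3 := by
    intro hd
    have h6 : prB (2 ^ f) 3 = ((2 ^ f) ^ 2 - 1) * (((2 ^ f) ^ 4 - 1) * ((2 ^ f) ^ 6 - 1)) := by
      simp [prB, List.range_succ]
    have h7 : ∀ n, 1 ≤ n → ¬ 2 ∣ (2 ^ f) ^ n - 1 := by
      intro n hn h
      have := hpow n hn
      have := hpos n
      omega
    rw [h6] at hd
    rcases Nat.prime_two.dvd_mul.1 hd with h | h
    · exact h7 2 (by norm_num) h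
    · rcases Nat.prime_two.dvd_mul.1 h with h | h
      · exact h7 4 (by norm_num) h
      · exact h7 6 (by norm_num) h
  have h0 : prB (2 ^ f) 3 ≠ 0 := by
    intro h
    rw [h] at h5
    exact h5 (dvd_zero 2)
  rw [h1, Nat.factorization_mul (by positivity) h0, ← pow_mul, Nat.factorization_pow, Finsupp.add_apply,
    Finsupp.smul_apply, Nat.prime_two.factorization_self, Nat.factorization_eq_zero_of_not_dvd h5, smul_eq_mul]
  ring

/-! ### the overgroups -/

section res

variable {F : Type} [Field F] [Fintype F] {p a r b s k t : ℕ} {R : Subgroup (T8 F)}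

/-- the classification, as a hypothesis -/
abbrev AK : Prop := ∀ (S : Type) [Group S] [Finite S] [IsSimpleGroup S], IsKnownSimple' S

/-- type `Ω₇`: an image fixes a nonsingular point, and a subgroup is `Ω₇(q)` -/
def Big (p a : ℕ) (R : Subgroup (T8 F)) : Prop :=
  (∃ (α : MulAut (T8 F)) (w : I8 → F), quadFormPlus 4 F w ≠ 0 ∧
    pre (quadFormPlus 4 F) (R.map α.toMonoidHom) ≤ SW (Submodule.span F {w})) ∧ ∃ S : Subgroup R, Sp6 p a S

theorem Big.of_map {α : MulAut (T8 F)} (h : Big p a (R.map α.toMonoidHom)) : Big p a R := by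
  obtain ⟨⟨β, w, h1, h2⟩, S, hS⟩ := h
  refine ⟨⟨β * α, w, h1, ?_⟩, ?_⟩
  · rwa [map_map'] at h2
  · obtain ⟨φ, -⟩ : ∃ φ : R.map α.toMonoidHom ≃* R, φ = (R.equivMapOfInjective α.toMonoidHom α.injective).symm := ⟨_, rfl⟩
    exact ⟨S.map φ.toMonoidHom, hS.congr (S.equivMapOfInjective φ.toMonoidHom φ.injective)⟩

/-- the box SPIN, one field -/
def Spin (F : Type) [Field F] [Fintype F] (p a : ℕ) : Prop :=
  ∀ {R : Subgroup (T8 F)} (_ : R ≠ ⊤) (S : Subgroup R) [S.Normal] (_ : IsSimpleGroup S)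
    (_ : Subgroup.centralizer (S : Set R) = ⊥) {P : Subgroup (GL I8 F)}
    (_ : IsResidualCore (pre (quadFormPlus 4 F) R) P) (_ : S ≃* Soc P) (_ : Sp6 p a S),
    ∃ α : MulAut (T8 F), FixV (R.map α.toMonoidHom)

theorem res_case' (hF : Nat.card F = p ^ a) (h : Nm p a r b s k t) (hK : AK) (spin : Spin F p a) (hR : R ≠ ⊤)
    (hs : s ^ k ∣ Nat.card R) (hrt : t ∣ Nat.card R ∧ p ^ (6 * a + 2) ∣ Nat.card R)
    (hres : InOrthogonalResidualClass (pre (quadFormPlus 4 F) R)) : Big p a R := by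
  obtain ⟨P, hP, -⟩ := hres
  obtain ⟨S, hSn, hS, hna, hC, ⟨e⟩⟩ := exists_res_plus (n := 4) le_rfl hP
  have hsR : s ∣ Nat.card R := (dvd_pow_self s h.hk).trans hs
  have key : Sp6 p a S → Big p a R := by
    intro hS6
    obtain ⟨α, w, hw, hle⟩ := spin hR S hS hC hP e hS6
    exact ⟨⟨α, w, hw, hle⟩, S, hS6⟩
  by_cases hL : IsLieTypeChar p (Soc P)
  · rcases H911.O8S.own hF h.rk.weak hR S hS hna hC hP e hL hsR with ⟨E, i1, i2, hE, ⟨f⟩⟩ | hN | h6 | h6
    · exfalso
      exact (H886.O8R.ord_psl2 h.rb.hp h.rb.ha h.rb.prim S hC hE f).2 hrt.2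
    · exfalso
      exact (H886.O8R.ord_psu3 h.rb.hp h.rb.ha (by have := h.q16; omega) h.rb.prim h.t S hC hN).2 hrt.1
    · exact key (Or.inl h6)
    · exact key (Or.inr h6)
  · exfalso
    have hP1 : IsSimpleGroup (Soc P) := e.symm.isSimpleGroup
    exact H372.O8R.cross hF h S hS hna hC hP e hL (hK (Soc P)) hs (Or.inr hrt.1)

theorem f36' (hF : Nat.card F = p ^ a) (h : Nm p a r b s k t) (hK : AK) (spin : Spin F p a) (hR : R ≠ ⊤)
    (hs : s ^ k ∣ Nat.card R) (ht : t ∣ Nat.card R) (hp : p ^ (6 * a + 2) ∣ Nat.card R) : Big p a R := by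
  by_contra hcon
  refine H679.O8R.three hF h (fun α => ?_) hp
  have hc : Nat.card (R.map α.toMonoidHom) = Nat.card R := card_map α
  rcases g6 hF h.rk (R := R.map α.toMonoidHom) (by rw [hc]; exact hs) with h1 | h1 | h1 | h1
  · exact h1
  · exfalso
    exact (H372.O8R.ord_fixP hF h h1).1 (by rw [hc]; exact ht)
  · exfalso
    exact not_dvd_of_fixJ hF h h1 (by rw [hc]; exact ht)
  · exfalso
    refine hcon (res_case' hF h hK spin (map_ne_top hR α) (by rw [hc]; exact hs) ?_ h1).of_map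
    rw [hc]
    exact ⟨ht, hp⟩

end res

/-! ### the order of the groups of type `Ω₇` -/

section ord

variable {F : Type} [Field F] [Fintype F] {f : ℕ} {R : Subgroup (T8 F)}

open Cfsg.Agent.H886.O8R (om mkT Xw fix_of_pre card_stab card_rel)

theorem dvd_of_fix (h2 : (2 : F) = 0) {w : I8 → F} (hw : quadFormPlus 4 F w ≠ 0)
    (hR : pre (quadFormPlus 4 F) R ≤ SW (Submodule.span F {w})) : Nat.card R ∣ Nat.card (PSp 3 F) := by
  have hfin : Finite (Omega F (quadFormPlus 4 F)) := inferInstance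
  set H : Subgroup (Omega F (quadFormPlus 4 F)) := R.comap (mkT F) with hH
  set Z := Subgroup.center (Omega F (quadFormPlus 4 F)) with hZ
  have h1 : Nat.card H = Nat.card R * Nat.card Z := by
    have h2 : H.index = R.index := Subgroup.index_comap_of_surjective _ (QuotientGroup.mk'_surjective _)
    have h3 := H.card_mul_index
    have h4 := R.card_mul_index
    have h5 : Nat.card (Omega F (quadFormPlus 4 F)) = Nat.card (POmega F (quadFormPlus 4 F)) * Nat.card Z :=
      Subgroup.card_eq_card_quotient_mul_card_subgroup Z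
    have h6 : 0 < H.index := Nat.pos_of_ne_zero Subgroup.index_ne_zero_of_finite
    apply Nat.eq_of_mul_eq_mul_right h6
    rw [h3, h5, ← h4, h2]
    ring
  have h5 : Nat.card (Omega F (quadFormPlus 4 F)) = Nat.card (POmega F (quadFormPlus 4 F)) * Nat.card Z :=
    Subgroup.card_eq_card_quotient_mul_card_subgroup Z
  have hle : H ≤ Xw w := by
    intro x hx
    rcases fix_of_pre hw hR (x := x) hx with h3 | h3
    · exact h3
    · have h4 : -w = w := by
        have h5 : w + w = 0 := by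
          rw [← two_smul F w, h2, zero_smul]
        exact neg_eq_of_add_eq_zero_left h5
      rw [h4] at h3
      exact h3
  have h6 := Subgroup.card_dvd_of_le hle
  have h7 := card_stab hw
  have h8 := card_rel (F := F) (K := F) rfl
  have hq : Nat.gcd 2 (Fintype.card F - 1) = 1 := by
    apply Nat.coprime_two_left.2
    rw [Nat.odd_iff]
    have h9 : Fintype.card F % 2 = 0 := by
      have hc : CharP F 2 := CharTwo.of_one_ne_zero_of_two_eq_zero one_ne_zero h2
      obtain ⟨n, -, hn⟩ := FiniteField.card F 2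
      rw [hn]
      exact Nat.mod_eq_zero_of_dvd (dvd_pow_self 2 n.ne_zero)
    have := Fintype.card_pos (α := F)
    omega
  rw [hq, one_mul] at h8
  have hpos : 0 < Fintype.card F ^ 7 - Fintype.card F ^ 3 :=
    Nat.sub_pos_of_lt (Nat.pow_lt_pow_right (Fintype.one_lt_card (α := F)) (by norm_num))
  have hZ0 : 0 < Nat.card Z := Nat.card_pos
  have h9 : Nat.card (Xw w) = Nat.card (PSp 3 F) * Nat.card Z := by
    apply Nat.eq_of_mul_eq_mul_left hpos
    rw [h7, h5, h8]
    ring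
  rw [h1, h9] at h6
  exact Nat.dvd_of_mul_dvd_mul_right hZ0 h6

theorem fac_big (hf : 1 ≤ f) (hF : Fintype.card F = 2 ^ f) (h2 : (2 : F) = 0) (h : Big 2 f R) :
    (Nat.card R).factorization 2 = 9 * f := by
  obtain ⟨⟨α, w, hw, hle⟩, S, hS⟩ := h
  apply le_antisymm
  · have h1 := dvd_of_fix h2 hw hle
    rw [card_map] at h1
    have h3 := (Nat.factorization_le_iff_dvd Nat.card_pos.ne' Nat.card_pos.ne').2 h1 2
    rwa [fac_psp hf hF] at h3
  · rcases hS with ⟨K, i1, i2, hK, ⟨e⟩⟩ | ⟨h0, -⟩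
    · have h1 := Subgroup.card_subgroup_dvd_card S
      rw [Nat.card_congr e.toEquiv] at h1
      have h3 := (Nat.factorization_le_iff_dvd Nat.card_pos.ne' Nat.card_pos.ne').2 h1 2
      rwa [fac_psp hf hK] at h3
    · exact absurd rfl h0

end ord

/-! ### the bridge -/

section bridge

variable {F : Type} [Field F] [Fintype F]

open Cfsg.Agent.H886.O8R (mkT QF coe_QF nd_QF good_QF)

/-- the linear group of `Ω` -/
noncomputable def vO (F : Type) [Field F] : Omega F (quadFormPlus 4 F) →* GL I8 F :=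
  (isometryGroup F (quadFormPlus 4 F)).subtype.comp (Omega F (quadFormPlus 4 F)).subtype

/-- the part in `Ω` -/
noncomputable def RO (R : Subgroup (GL I8 F)) : Subgroup (Omega F (quadFormPlus 4 F)) := R.comap (vO F)

theorem index_omega (h2 : (2 : F) = 0) : (Omega F (quadFormPlus 4 F)).index = 2 := by
  have hchar : CharP F 2 := CharTwo.of_one_ne_zero_of_two_eq_zero one_ne_zero h2
  have h1 : (Omega F ⇑(QF F)).index = 2 := LieClassical.OmegaReindex.index_omega_of_fin (n := 8) (by simp)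
    (fun Q' hQ' => S0789.result (by omega) Q' hQ' (Or.inr (by omega))) (QF F) (nondegenerate_of_nondeg nd_QF)
  have key : ∀ q : (I8 → F) → F, q = ⇑(QF F) → (Omega F q).index = 2 := by
    rintro _ rfl
    exact h1
  exact key _ coe_QF.symm

theorem center_eq (h2 : (2 : F) = 0) : Subgroup.center (Omega F (quadFormPlus 4 F)) = ⊥ := by
  have hiso : ∃ u : I8 → F, u ≠ 0 ∧ QF F u = 0 := by
    obtain ⟨u, hu0, hu⟩ := exists_singular (QF F) (by
      rw [Module.finrank_fintype_fun_eq_card, Fintype.card_sum, Fintype.card_fin]; norm_num)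
    exact ⟨u, hu0, hu⟩
  have key : ∀ (q : (I8 → F) → F) (hq : q = ⇑(QF F)) (x : Omega F q), x ∈ Subgroup.center (Omega F q) →
      LieClassical.OmegaCenter.omegaMat x = 1 ∨ LieClassical.OmegaCenter.omegaMat x = -1 := by
    rintro q rfl x hx
    exact (LieClassical.OmegaCenter.mem_center_omega_iff (QF F) (nondegenerate_of_nondeg nd_QF) (by decide) hiso x).1 hx
  rw [eq_bot_iff]
  intro x hx
  rw [Subgroup.mem_bot]
  apply LieClassical.OmegaCenter.omega_ext
  have h0 : LieClassical.OmegaCenter.omegaMat x = 1 := by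
    rcases key _ coe_QF.symm x hx with h1 | h1
    · exact h1
    · rw [h1]
      have h7 : (-1 : F) = 1 := by linear_combination -h2
      ext i j
      rw [Matrix.neg_apply, ← neg_one_mul, h7, one_mul]
  rw [h0]
  rfl

theorem mkT_inj (h2 : (2 : F) = 0) : Function.Injective (mkT F) := by
  rw [← MonoidHom.ker_eq_bot_iff, QuotientGroup.ker_mk']
  exact center_eq h2

theorem card_RO (h2 : (2 : F) = 0) {R : Subgroup (GL I8 F)} (hR : R ≤ isometryGroup F (quadFormPlus 4 F)) :
    ∃ j, j ∣ 2 ∧ Nat.card (RO R) * j = Nat.card R := by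
  have hn : (Omega F (quadFormPlus 4 F)).Normal := inferInstance
  refine ⟨(Omega F (quadFormPlus 4 F)).relIndex (R.subgroupOf (isometryGroup F (quadFormPlus 4 F))), ?_, ?_⟩
  · have h1 := Subgroup.relIndex_dvd_index_of_normal (Omega F (quadFormPlus 4 F))
      (R.subgroupOf (isometryGroup F (quadFormPlus 4 F)))
    rwa [index_omega h2] at h1
  · have h1 : Nat.card (RO R) = Nat.card ((Omega F (quadFormPlus 4 F)).subgroupOf
        (R.subgroupOf (isometryGroup F (quadFormPlus 4 F)))) := by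
      have h3 : RO R = (R.subgroupOf (isometryGroup F (quadFormPlus 4 F))).subgroupOf (Omega F (quadFormPlus 4 F)) := rfl
      have h4 := fun (A B : Subgroup (isometryGroup F (quadFormPlus 4 F))) =>
        Nat.card_congr ((A.subgroupOf B).equivMapOfInjective B.subtype B.subtype_injective).toEquiv
      rw [h3, h4, h4, Subgroup.subgroupOf_map_subtype, Subgroup.subgroupOf_map_subtype, inf_comm]
    rw [h1]
    have h2 := ((Omega F (quadFormPlus 4 F)).subgroupOf (R.subgroupOf (isometryGroup F (quadFormPlus 4 F)))).card_mul_index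
    rw [Nat.card_congr (Subgroup.subgroupOfEquivOfLe hR).toEquiv] at h2
    exact h2

theorem card_R' (h2 : (2 : F) = 0) (R : Subgroup (GL I8 F)) : Nat.card ((RO R).map (mkT F)) = Nat.card (RO R) :=
  (Nat.card_congr ((RO R).equivMapOfInjective (mkT F) (mkT_inj h2)).toEquiv).symm

theorem le_of_top (h2 : (2 : F) = 0) {R : Subgroup (GL I8 F)} (h : (RO R).map (mkT F) = ⊤) :
    omegaGL (quadFormPlus 4 F) ≤ R := by
  have h1 : RO R = ⊤ := by
    rw [← Subgroup.comap_map_eq_self_of_injective (mkT_inj h2) (RO R), h, Subgroup.comap_top]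
  rintro _ ⟨y, hy, rfl⟩
  have h3 : (⟨y, hy⟩ : Omega F (quadFormPlus 4 F)) ∈ RO R := by rw [h1]; exact Subgroup.mem_top _
  exact h3

/-- transport -/
theorem omega_conj {Q Q' : (I8 → F) → F} {g : GL I8 F} (hg : ∀ v, Q' ((g : Matrix I8 I8 F).mulVec v) = Q v) :
    (isometryGroup F Q).map (MulAut.conj g).toMonoidHom ≤ isometryGroup F Q' ∧
    (omegaGL Q).map (MulAut.conj g).toMonoidHom ≤ omegaGL Q' := by
  have h1 : (isometryGroup F Q).map (MulAut.conj g).toMonoidHom ≤ isometryGroup F Q' := by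
    rintro _ ⟨x, hx, rfl⟩
    refine LieClassical.OrthFinite.mem_isometryGroup_iff.2 fun v => ?_
    have h2 := LieClassical.OrthFinite.mem_isometryGroup_iff.1 hx
    change Q' (((g * x * g⁻¹ : GL I8 F) : Matrix I8 I8 F).mulVec v) = Q' v
    rw [Units.val_mul, Units.val_mul, ← Matrix.mulVec_mulVec, ← Matrix.mulVec_mulVec, hg, h2, ← hg, Matrix.mulVec_mulVec,
      ← Units.val_mul, mul_inv_cancel, Units.val_one, Matrix.one_mulVec]
  refine ⟨h1, ?_⟩
  have h3 : ∀ q : (I8 → F) → F, omegaGL q = ⁅isometryGroup F q, isometryGroup F q⁆ := fun q => by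
    rw [omegaGL, Omega, commutator_def, Subgroup.map_commutator, ← MonoidHom.range_eq_map, Subgroup.range_subtype]
  rw [h3, h3, Subgroup.map_commutator]
  exact Subgroup.commutator_mono h1 h1

theorem exists_g {Q : (I8 → F) → F} (hQ : IsNondegenerateQuadraticForm Q) (hP : IsPlusTypeOn Q ⊤) :
    ∃ g : GL I8 F, ∀ v, quadFormPlus 4 F ((g : Matrix I8 I8 F).mulVec v) = Q v := by
  obtain ⟨Q', rfl, hn⟩ := H883.Bridge.exists_quadraticForm hQ
  have hd : finrank F (I8 → F) = 2 * 4 := by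
    rw [Module.finrank_fintype_fun_eq_card, Fintype.card_sum, Fintype.card_fin]
  have hP' : H955.IsPlus Q' := by
    obtain ⟨U, -, hU, h1⟩ := hP
    exact ⟨U, hU, by rw [h1, finrank_top]⟩
  obtain ⟨e, he⟩ := exists_plus_equiv 4 Q' hn hd hP'
  refine ⟨(LieClassical.OrthFinite.glEquiv I8 F).symm e, fun v => ?_⟩
  rw [← he v, ← LieClassical.OrthFinite.glEquiv_apply, MulEquiv.apply_symm_apply, LieClassical.QuadForms.coe_plusForm]

end bridge

/-- **(O8+)** from SPIN in characteristic two -/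
theorem boxO8p_of (hK : AK) (spin : ∀ (F : Type) [Field F] [Fintype F] (f : ℕ), 4 ≤ f → Nat.card F = 2 ^ f → Spin F 2 f) :
    BoxO8p := by
  intro F _ _ f hf hF Q hQ hP R hR s t hs ht hsR htR
  obtain ⟨r, b, hn⟩ := exists_nm hf hs ht
  have hF' : Nat.card F = 2 ^ f := by rw [Nat.card_eq_fintype_card, hF]
  have hchar : (2 : F) = 0 := by
    have h1 : ((Fintype.card F : ℕ) : F) = 0 := FiniteField.cast_card_eq_zero F
    rw [hF, Nat.cast_pow] at h1
    exact pow_eq_zero_iff (by omega : f ≠ 0) |>.1 h1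
  obtain ⟨g, hg⟩ := exists_g hQ hP
  obtain ⟨h1, h2⟩ := omega_conj (Q := Q) (Q' := quadFormPlus 4 F) hg
  obtain ⟨R1, hR1⟩ : ∃ R1 : Subgroup (GL I8 F), R1 = R.map (MulAut.conj g).toMonoidHom := ⟨_, rfl⟩
  have hR1le : R1 ≤ isometryGroup F (quadFormPlus 4 F) := by
    rw [hR1]
    exact (Subgroup.map_mono hR).trans h1
  have hc : Nat.card R1 = Nat.card R := by
    rw [hR1]
    exact (Nat.card_congr (R.equivMapOfInjective (MulAut.conj g).toMonoidHom (MulAut.conj g).injective).toEquiv).symm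
  obtain ⟨j, hj, hj'⟩ := card_RO hchar hR1le
  rw [hc] at hj'
  have hcR' := card_R' hchar R1
  obtain ⟨X, hX⟩ : ∃ X : Subgroup (T8 F), X = (RO R1).map (H886.O8R.mkT F) := ⟨_, rfl⟩
  rw [← hX] at hcR'
  by_cases htop : X = ⊤
  · left
    have h3 := le_of_top hchar (hX.symm.trans htop)
    intro x hx
    have h4 : (MulAut.conj g).toMonoidHom x ∈ R1 := h3 (h2 (Subgroup.mem_map_of_mem _ hx))
    rw [hR1] at h4
    obtain ⟨y, hy, hxy⟩ := h4
    rwa [← (MulAut.conj g).injective hxy]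
  right
  have hX0 : Nat.card X ≠ 0 := Nat.card_pos.ne'
  have hodd : ∀ l, l.Prime → l ≠ 2 → l ∣ Nat.card R → l ∣ Nat.card X := by
    intro l hl hl2 hd
    rw [← hj', ← hcR'] at hd
    rcases hl.dvd_mul.1 hd with h3 | h3
    · exact h3
    · exact absurd ((Nat.prime_dvd_prime_iff_eq hl Nat.prime_two).1 (h3.trans hj)) hl2
  have hs2 : s ≠ 2 := by
    have := H832.O8R.lt_of_prim hn.rk.prim
    omega
  have ht2 : t ≠ 2 := by
    have := H832.O8R.lt_of_prim hn.t
    omega
  have hv1 : (Nat.card X).factorization 2 ≤ (Nat.card R).factorization 2 := by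
    apply (Nat.factorization_le_iff_dvd hX0 Nat.card_pos.ne').2
    rw [hcR']
    exact ⟨j, hj'.symm⟩
  have hv2 : (Nat.card R).factorization 2 ≤ (Nat.card X).factorization 2 + 1 := by
    have h3 : Nat.card R ∣ Nat.card X * 2 := by
      rw [← hj', hcR']
      exact Nat.mul_dvd_mul_left _ hj
    have h4 := (Nat.factorization_le_iff_dvd Nat.card_pos.ne' (Nat.mul_ne_zero hX0 two_ne_zero)).2 h3 2
    rwa [Nat.factorization_mul hX0 two_ne_zero, Finsupp.add_apply, Nat.prime_two.factorization_self] at h4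
  by_cases h6 : 2 ^ (6 * f + 2) ∣ Nat.card X
  · right
    have h7 := fac_big (by omega) hF hchar (f36' hF' hn hK (spin F f hf hF') htop
      (by rw [pow_one]; exact hodd s hs.prime hs2 hsR) (hodd t ht.prime ht2 htR) h6)
    change 9 * f ≤ (Nat.card R).factorization 2 ∧ (Nat.card R).factorization 2 ≤ 9 * f + 1
    omega
  · left
    have h7 : (Nat.card X).factorization 2 < 6 * f + 2 := by
      by_contra hcon
      exact h6 ((Nat.prime_two.pow_dvd_iff_le_factorization hX0).2 (by omega))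
    change (Nat.card R).factorization 2 ≤ 6 * f + 2
    omega

/-- **the box (O8+)** -/
theorem boxO8p (hK : AK) : BoxO8p :=
  boxO8p_of hK (fun F _ _ f hf hF => fun hR S _ hS hC _ hP e h6 =>
    H953.O8R.spin_six Nat.prime_two (by
      calc 16 = 2 ^ 4 := by norm_num
        _ ≤ 2 ^ f := Nat.pow_le_pow_right (by norm_num) hf) hF hR S hS hC hP e h6)

end Cfsg.Agent.H299.Rs
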